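import Mathlib
import Cfsg.Agent.H105.SzSp8
import Cfsg.Agent.H16.PSp4.Bridge
import Cfsg.Agent.H200.LinFixE_m3
import Cfsg.Agent.Prune
set_option linter.all false
prune_inst 0x7f00000000000000000000000000000000000000000000000000000000000000000000000000000000000000000000000000000000000000000000000000000000000000000000000000000000000000003fffffffffffffffffffffffffffbeffbdffffffff
open scoped Cfsg.Agent.FastGrp

/-!
# `PSp_2m(q)` as a central quotient of the isometry group (helper144, S2451)

`Gm m F` = isometries of the standard symplectic space, `pj : Gm m F →* PSp m F`; the kernel consists of the scalars.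
-/

set_option autoImplicit false
set_option linter.unusedSectionVars false

namespace Cfsg.Agent.H144.AH

open Module Cfsg Cfsg.Agent.H955 Cfsg.Agent.H105.Sz Cfsg.Agent.H105.SzSp
open Cfsg.Agent.ClassicalGeometry.SympBasic Cfsg.Agent.LieClassical.OrthFinite

section base

variable (m : ℕ) (F : Type) [Field F]

/-- the isometry group of the standard symplectic space -/
abbrev Gm : Subgroup ((Fin m ⊕ Fin m → F) ≃ₗ[F] (Fin m ⊕ Fin m → F)) := IsoB (sympBilin m F)

/-- the symplectic matrices as isometries -/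
noncomputable def toGm : Matrix.symplecticGroup (Fin m) F ≃* Gm m F :=
  MulEquiv.ofBijective ((rho m F).codRestrict (Gm m F) (fun A => by
    have h : rho m F A ∈ (rho m F).range := ⟨A, rfl⟩
    rw [rho_range] at h
    exact h)) (by
    constructor
    · intro A A' h
      exact rho_injective (congrArg Subtype.val h)
    · rintro ⟨g, hg⟩
      have h1 : g ∈ IsoB (sympBilin m F) := hg
      rw [← rho_range] at h1
      obtain ⟨A, rfl⟩ := h1
      exact ⟨A, rfl⟩)

/-- the projection onto `PSp` -/
noncomputable def pj : Gm m F →* PSp m F :=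
  (QuotientGroup.mk' (Subgroup.center (Matrix.symplecticGroup (Fin m) F))).comp (toGm m F).symm.toMonoidHom

variable {m F}

theorem pj_surj : Function.Surjective (pj m F) := by
  intro x
  obtain ⟨y, rfl⟩ := QuotientGroup.mk'_surjective _ x
  exact ⟨toGm m F y, by simp [pj]⟩

theorem mem_ker_iff {g : Gm m F} : g ∈ (pj m F).ker ↔ g ∈ Subgroup.center (Gm m F) := by
  rw [MonoidHom.mem_ker]
  have h1 : pj m F g = QuotientGroup.mk' (Subgroup.center (Matrix.symplecticGroup (Fin m) F)) ((toGm m F).symm g) := rfl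
  rw [h1, QuotientGroup.mk'_apply, QuotientGroup.eq_one_iff, Subgroup.mem_center_iff, Subgroup.mem_center_iff]
  constructor
  · intro h x
    apply (toGm m F).symm.injective
    rw [map_mul, map_mul]
    exact h _
  · intro h x
    apply (toGm m F).injective
    rw [map_mul, map_mul, MulEquiv.apply_symm_apply]
    exact h _

theorem pj_ker : (pj m F).ker ≤ Subgroup.center (Gm m F) := fun _ h => mem_ker_iff.1 h

theorem scalar_of_mem_ker {g : Gm m F} (h : g ∈ (pj m F).ker) : Scalar g.1 := by
  apply scalar_of_comm (isSp_sympBilin m F)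
  intro x hx v
  have h1 := Subgroup.mem_center_iff.1 (mem_ker_iff.1 h) ⟨x, hx⟩
  exact (congrArg (fun g : Gm m F => g.1 v) h1).symm

theorem mem_ker_of_scalar {g : Gm m F} (h : Scalar g.1) : g ∈ (pj m F).ker := by
  rw [mem_ker_iff, Subgroup.mem_center_iff]
  intro x
  obtain ⟨c, hc⟩ := h
  apply Subtype.ext
  apply LinearEquiv.ext
  intro v
  change x.1 (g.1 v) = g.1 (x.1 v)
  rw [hc, hc, map_smul]

theorem pj_eq_one_iff {g : Gm m F} : pj m F g = 1 ↔ Scalar g.1 :=
  ⟨fun h => scalar_of_mem_ker (MonoidHom.mem_ker.2 h), fun h => MonoidHom.mem_ker.1 (mem_ker_of_scalar h)⟩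

theorem finite_Gm [Finite F] : Finite (Gm m F) := by
  have h1 : Finite ((Fin m ⊕ Fin m → F) ≃ₗ[F] (Fin m ⊕ Fin m → F)) :=
    Finite.of_injective (fun g : (Fin m ⊕ Fin m → F) ≃ₗ[F] (Fin m ⊕ Fin m → F) => (g : _ → _)) DFunLike.coe_injective
  infer_instance

instance instFiniteGmSp [Finite F] : Finite (Gm m F) := finite_Gm

theorem pow_scalar {V : Type*} [AddCommGroup V] [Module F V] {g : V ≃ₗ[F] V} {c : F} (hc : ∀ v, g v = c • v) (n : ℕ)
    (v : V) : (g ^ n) v = c ^ n • v := by
  induction n generalizing v with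
  | zero => simp
  | succ n ih => rw [pow_succ, LinearEquiv.mul_apply, hc, map_smul, ih, smul_smul, pow_succ, mul_comm]

theorem pj_ker_card [Finite F] {p : ℕ} [hp : Fact p.Prime] [CharP F p] (hm : 1 ≤ m) :
    ¬ p ∣ Nat.card (pj m F).ker := by
  intro hd
  obtain ⟨⟨z, hz⟩, hz'⟩ := exists_prime_orderOf_dvd_card' p hd
  obtain ⟨c, hc⟩ := scalar_of_mem_ker hz
  have h1 : z ^ p = 1 := by
    have := pow_orderOf_eq_one (⟨z, hz⟩ : (pj m F).ker)
    rw [hz'] at this
    exact congrArg Subtype.val this
  have hne : (Pi.single (Sum.inl ⟨0, hm⟩) 1 : Fin m ⊕ Fin m → F) ≠ 0 := by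
    intro h
    have := congrFun h (Sum.inl ⟨0, hm⟩)
    simp at this
  have h2 : c ^ p = 1 := by
    have h3 := pow_scalar hc p (Pi.single (Sum.inl ⟨0, hm⟩) 1)
    have h4 : z.1 ^ p = 1 := congrArg Subtype.val h1
    rw [h4] at h3
    have h5 : (1 : F) • (Pi.single (Sum.inl ⟨0, hm⟩) 1 : Fin m ⊕ Fin m → F) =
        c ^ p • (Pi.single (Sum.inl ⟨0, hm⟩) 1 : Fin m ⊕ Fin m → F) := by
      rw [one_smul]; exact h3
    exact (smul_left_injective F hne h5).symm
  have h3 : c = 1 := by
    have h4 : (c - 1) ^ p = 0 := by rw [sub_pow_char, h2, one_pow, sub_self]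
    exact sub_eq_zero.1 (pow_eq_zero_iff hp.out.ne_zero |>.1 h4)
  have h4 : z = 1 := by
    apply Subtype.ext
    apply LinearEquiv.ext
    intro v
    rw [hc, h3, one_smul]
    rfl
  subst h4
  have h5 : orderOf (⟨1, hz⟩ : (pj m F).ker) = 1 := orderOf_one
  rw [h5] at hz'
  exact hp.out.one_lt.ne hz'

end base

/-! ### Fixed vectors -/

section fix

variable {F V : Type*} [Field F] [Finite F] [AddCommGroup V] [Module F V] [FiniteDimensional F V]
  {B : LinearMap.BilinForm F V} {p : ℕ} [hp : Fact p.Prime] [CharP F p]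

/-- a `p`-group of linear maps fixes a vector of a stable subspace -/
theorem exists_fixed_vec {X : Subgroup (IsoB B)} (hX : IsPGroup p X) {U : Submodule F V} (hU : U ≠ ⊥)
    (hinv : ∀ x ∈ X, ∀ v ∈ U, x.1 v ∈ U) : ∃ v ∈ U, v ≠ 0 ∧ ∀ x ∈ X, x.1 v = v := by
  have hfV : Finite V := Module.finite_of_finite F
  have hfin : Finite (V ≃ₗ[F] V) :=
    Finite.of_injective (fun g : V ≃ₗ[F] V => (g : V → V)) DFunLike.coe_injective
  let τ : IsoB B →* Module.End F V :=
    { toFun := fun g => (g.1 : V →ₗ[F] V)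
      map_one' := rfl
      map_mul' := fun _ _ => rfl }
  exact H951.Two.exists_fixed τ hX hU hinv

/-- the vectors fixed by `X` -/
def fx (X : Subgroup (IsoB B)) : Submodule F V where
  carrier := {v | ∀ x ∈ X, x.1 v = v}
  add_mem' := by
    intro v w hv hw x hx
    rw [map_add, hv x hx, hw x hx]
  zero_mem' := fun x _ => map_zero _
  smul_mem' := by
    intro c v hv x hx
    rw [map_smul, hv x hx]

/-- a `p`-regular isometry is semisimple -/
theorem semis {a : V ≃ₗ[F] V} {N : ℕ} (hN : ¬ p ∣ N) (haN : a ^ N = 1) {l : F} {y z : V} (hy : a y = l • y + z)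
    (hz : a z = l • z) : z = 0 := by
  by_contra hz0
  have h1 : ∀ n, (a ^ n) z = l ^ n • z := by
    intro n
    induction n with
    | zero => simp
    | succ n ih => rw [pow_succ, LinearEquiv.mul_apply, hz, map_smul, ih, smul_smul, pow_succ, mul_comm]
  have h2 : ∀ n, (a ^ (n + 1)) y = l ^ (n + 1) • y + (((n + 1 : ℕ) : F) * l ^ n) • z := by
    intro n
    induction n with
    | zero => simp [hy]
    | succ n ih =>
      rw [pow_succ, LinearEquiv.mul_apply, hy, map_add, map_smul, ih, h1, smul_add, smul_smul, smul_smul, add_assoc,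
        ← add_smul]
      congr 2
      · ring
      · push_cast
        ring
  have hN0 : N ≠ 0 := by
    rintro rfl
    exact hN (dvd_zero p)
  obtain ⟨k, rfl⟩ := Nat.exists_eq_succ_of_ne_zero hN0
  have h3 := h2 k
  have h4 := h1 (k + 1)
  rw [Nat.succ_eq_add_one] at haN hN
  rw [haN] at h3 h4
  have h5 : l ^ (k + 1) = 1 := by
    have h6 : (1 : F) • z = l ^ (k + 1) • z := by rw [one_smul]; exact h4
    exact (smul_left_injective F hz0 h6).symm
  rw [h5, one_smul] at h3
  have h7 : (((k + 1 : ℕ) : F) * l ^ k) • z = 0 := by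
    have : y + 0 = y + (((k + 1 : ℕ) : F) * l ^ k) • z := by rw [add_zero]; exact h3
    exact (add_left_cancel this).symm
  rcases smul_eq_zero.1 h7 with h8 | h8
  · rcases mul_eq_zero.1 h8 with h9 | h9
    · exact hN ((CharP.cast_eq_zero_iff F p _).1 h9)
    · have : l ^ (k + 1) = 0 := by rw [pow_succ, h9, zero_mul]
      rw [h5] at this
      exact one_ne_zero this
  · exact hz0 h8

end fix

end Cfsg.Agent.H144.AH

private theorem dce_521aa3a1506f : _root_.True := by
  try have : _root_.True := by simp only [_root_.Cfsg.Agent.H144.AH.pj.eq_1]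
  exact _root_.True.intro
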